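import Groth.Agent.H6Proj.Affine
import Groth.Agent.S12131
import Groth.Agent.KFlatLib.Scheme.PullTensorCx
import Groth.Agent.KFlatLib.Scheme.QCohTensor
import Groth.Agent.QCoh.RpushModel
import Groth.Agent.QCoh.RpushGod
import Groth.Agent.QCoh.AffineCohom
import Groth.Agent.QCoh.OpenSub
import Mathlib.AlgebraicGeometry.PullbackCarrier

/-!
# Acyclicity of kernels after base change along affine morphisms
-/

set_option autoImplicit false
set_option linter.style.haveILetI false
set_option backward.isDefEq.respectTransparency false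
set_option backward.isDefEq.respectTransparency.types false
set_option maxHeartbeats 800000

universe u

open CategoryTheory CategoryTheory.Limits AlgebraicGeometry TopologicalSpace Opposite

noncomputable section

namespace Groth.Agent.H6Proj

open Groth.Agent

theorem subsingleton_pullback_of_push {A X B P : Scheme.{u}} (qA : A ⟶ X) [IsAffineHom qA]
    (p : B ⟶ X) {α : P ⟶ A} {β : P ⟶ B} (h : IsPullback α β qA p)
    {F : A.Modules} (hF : Coh.IsQCoh F) {K : B.Modules} (hK : Coh.IsQCoh K) (i : ℕ)
    (hv : Subsingleton (Coh.HH B ((DCoh.tensorBi.obj ((Scheme.Modules.pullback p).obj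
      ((Scheme.Modules.pushforward qA).obj F))).obj K) i)) :
    Subsingleton (Coh.HH P ((DCoh.tensorBi.obj ((Scheme.Modules.pullback α).obj F)).obj
      ((Scheme.Modules.pullback β).obj K)) i) := by
  haveI : IsAffineHom β := MorphismProperty.of_isPullback h inferInstance
  let bc := @asIso _ _ _ _ _ (@S12131.result _ _ _ _ qA p α β h _ F hF)
  haveI := isIso_projMod_affine β _ K (QCoh.isQCoh_pullback α hF) hK
  let e := (DCoh.tensorBi.mapIso bc).app K ≪≫ asIso (KFlatLib.projMod β ((Scheme.Modules.pullback α).obj F) K)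
  haveI := QCoh.subsingleton_HH_of_iso e i hv
  obtain ⟨d⟩ := QCoh.HH_push_of_isAffineHom β
    (KFlatLib.isQCoh_tensor (QCoh.isQCoh_pullback α hF) (QCoh.isQCoh_pullback β hK)) i
  exact d.toEquiv.subsingleton

/-- Cohomology on an open subscheme is that of the pullback along any open immersion with that range. -/
theorem subsingleton_HH_restrict_iff {P P' : Scheme.{u}} (j : P' ⟶ P) [IsOpenImmersion j] (W : P.Opens)
    (hW : j.opensRange = W) {M : P.Modules} (hM : Coh.IsQCoh M) (i : ℕ) :
    Subsingleton (Coh.HH (W : Scheme.{u}) (M.restrict W.ι) i) ↔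
      Subsingleton (Coh.HH P' ((Scheme.Modules.pullback j).obj M) i) := by
  have hr : Set.range j = Set.range W.ι := by
    rw [Scheme.Opens.range_ι, ← hW]
    rfl
  let e := IsOpenImmersion.isoOfRangeEq W.ι j hr.symm
  haveI : IsAffineHom e.hom := inferInstance
  have hq := QCoh.isQCoh_pullback j hM
  let c : (Scheme.Modules.pullback e.hom).obj ((Scheme.Modules.pullback j).obj M) ≅ M.restrict W.ι :=
    (Scheme.Modules.pullbackComp e.hom j).app M ≪≫
      (Scheme.Modules.pullbackCongr (IsOpenImmersion.isoOfRangeEq_hom_fac W.ι j hr.symm)).app M ≪≫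
      (Scheme.Modules.restrictFunctorIsoPullback W.ι).symm.app M
  haveI : (Scheme.Modules.pushforward e.hom).IsEquivalence :=
    (CategoryTheory.Equivalence.mk (Scheme.Modules.pushforward e.hom) (Scheme.Modules.pushforward e.inv)
      ((Scheme.Modules.pushforwardId _).symm ≪≫
        Scheme.Modules.pushforwardCongr e.hom_inv_id.symm ≪≫
        (Scheme.Modules.pushforwardComp e.hom e.inv).symm)
      (Scheme.Modules.pushforwardComp e.inv e.hom ≪≫
        Scheme.Modules.pushforwardCongr e.inv_hom_id ≪≫
        Scheme.Modules.pushforwardId _)).isEquivalence_functor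
  haveI : (Scheme.Modules.pullback e.hom).IsEquivalence :=
    (Scheme.Modules.pullbackPushforwardAdjunction e.hom).isEquivalence_left_of_isEquivalence_right
  haveI : IsIso ((Scheme.Modules.pullbackPushforwardAdjunction e.hom).unit.app
      ((Scheme.Modules.pullback j).obj M)) := inferInstance
  let u := asIso ((Scheme.Modules.pullbackPushforwardAdjunction e.hom).unit.app
      ((Scheme.Modules.pullback j).obj M))
  obtain ⟨d⟩ := QCoh.HH_push_of_isAffineHom e.hom (QCoh.isQCoh_pullback e.hom hq) i
  constructor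
  · intro hs
    haveI : Subsingleton (Coh.HH (W : Scheme.{u}) ((Scheme.Modules.pullback e.hom).obj
        ((Scheme.Modules.pullback j).obj M)) i) := QCoh.subsingleton_HH_of_iso c.symm i hs
    exact QCoh.subsingleton_HH_of_iso u.symm i (d.symm.toEquiv.subsingleton :)
  · intro hs
    haveI : Subsingleton (Coh.HH P' ((Coh.push e.hom).obj ((Scheme.Modules.pullback e.hom).obj
        ((Scheme.Modules.pullback j).obj M))) i) := QCoh.subsingleton_HH_of_iso u i hs
    exact QCoh.subsingleton_HH_of_iso c i d.toEquiv.subsingleton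

theorem subsingleton_HH_of_isZero_Rpush {X S : Scheme.{u}} (f : X ⟶ S) [QuasiCompact f] [QuasiSeparated f]
    [HasInjectiveResolutions X.Modules] {M : X.Modules} (hM : Coh.IsQCoh M) (q : ℕ)
    (hz : IsZero ((Coh.Rpush f q).obj M)) {V : S.Opens} (hV : IsAffineOpen V) :
    Subsingleton (Coh.HH _ (M.restrict (f ⁻¹ᵁ V).ι) q) := by
  letI := QCoh.modHH (QCoh.rhoV f V) (M.restrict (f ⁻¹ᵁ V).ι) q
  obtain ⟨e⟩ := QCoh.nonempty_sections_HH (f := f) (M := M) (V := V) hM hV q
  haveI : Subsingleton Γ((Coh.Rpush f q).obj M, V) :=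
    AddCommGrpCat.subsingleton_of_isZero ((Functor.map_isZero
      (QCoh.toAbFunctor S ⋙ sheafToPresheaf _ _ ⋙ (evaluation _ _).obj (op V)) hz :))
  exact e.symm.toEquiv.subsingleton

theorem isZero_Rpush_of_HH {X S : Scheme.{u}} (f : X ⟶ S) [QuasiCompact f] [QuasiSeparated f]
    [HasInjectiveResolutions X.Modules] {M : X.Modules} (hM : Coh.IsQCoh M) (q : ℕ) {ι : Type*}
    (V : ι → S.Opens) (hV : ∀ i, IsAffineOpen (V i)) (hcov : ∀ y : S, ∃ i, y ∈ V i)
    (h : ∀ i, Subsingleton (Coh.HH _ (M.restrict (f ⁻¹ᵁ V i).ι) q)) :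
    IsZero ((Coh.Rpush f q).obj M) := by
  refine QCoh.isZero_of_cover (QCoh.isQCoh_Rpush f hM q) V hV hcov fun i => ?_
  letI := QCoh.modHH (QCoh.rhoV f (V i)) (M.restrict (f ⁻¹ᵁ V i).ι) q
  obtain ⟨e⟩ := QCoh.nonempty_sections_HH (f := f) (M := M) (V := V i) hM (hV i) q
  haveI := h i
  exact e.toEquiv.subsingleton

end Groth.Agent.H6Proj
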