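import Groth.Agent.KFlatLib.Scheme.ProjModule
import Groth.Agent.KFlatLib.Scheme.PullTensorCx
import Groth.Agent.QCoh.TensorSections
import Groth.Agent.QCoh.PullbackBC
import Groth.Agent.QCoh.Qcqs
import Groth.Agent.GrModX.BaseChangeTilde

/-!
# The projection formula for quasi-coherent modules along affine morphisms
-/

set_option autoImplicit false
set_option linter.style.haveILetI false
set_option backward.isDefEq.respectTransparency false
set_option backward.isDefEq.respectTransparency.types false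
set_option maxHeartbeats 800000

universe u

open CategoryTheory CategoryTheory.Limits AlgebraicGeometry TopologicalSpace Opposite
open scoped TensorProduct

noncomputable section

namespace Groth.Agent.H6Proj

open Groth.Agent

variable {X Y : Scheme.{u}} (f : X ⟶ Y) (M : X.Modules) (N : Y.Modules)

theorem counit_pb {U : Y.Opens} (s : Γ(M, f ⁻¹ᵁ U)) :
    ((Scheme.Modules.pullbackPushforwardAdjunction f).counit.app M).app (f ⁻¹ᵁ U)
      (KFlatLib.pb f (M := (Scheme.Modules.pushforward f).obj M) (U := U) s) = s :=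
  congrArg (fun g : (Scheme.Modules.pushforward f).obj M ⟶ _ => g.app U s)
    ((Scheme.Modules.pullbackPushforwardAdjunction f).right_triangle_components M)

theorem projMod_tmS {U : Y.Opens} (s : Γ(M, f ⁻¹ᵁ U)) (t : Γ(N, U)) :
    (KFlatLib.projMod f M N).app U (QCoh.tmS ((Scheme.Modules.pushforward f).obj M) N (U := U) s t) =
      QCoh.tmS M ((Scheme.Modules.pullback f).obj N) (U := f ⁻¹ᵁ U) s (KFlatLib.pb f t) := by
  rw [KFlatLib.projMod, Adjunction.homEquiv_unit]
  show (KFlatLib.projPre f M N).app (f ⁻¹ᵁ U)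
    (KFlatLib.pb f (KFlatLib.tmSh ((Scheme.Modules.pushforward f).obj M) N s t)) = _
  show ((DCoh.tensorBi.map ((Scheme.Modules.pullbackPushforwardAdjunction f).counit.app M)).app _).app _
    ((KFlatLib.pullTensorHom f _ N).app _ (KFlatLib.pb f (KFlatLib.tmSh _ N s t))) = _
  refine (congrArg _ (KFlatLib.pullTensorHom_pb f ((Scheme.Modules.pushforward f).obj M) N (U := U) s t)).trans ?_
  refine (KFlatLib.tmSh_naturality_left _ _ _ _).trans ?_
  exact congrArg (fun z : Γ(M, f ⁻¹ᵁ U) => KFlatLib.tmSh M ((Scheme.Modules.pullback f).obj N) z (KFlatLib.pb f t))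
    (counit_pb f M s)

theorem bijective_app [IsAffineHom f] (hM : Coh.IsQCoh M) (hN : Coh.IsQCoh N) {U : Y.Opens}
    (hU : IsAffineOpen U) : Function.Bijective ((KFlatLib.projMod f M N).app U) := by
  let V := f ⁻¹ᵁ U
  have hV : IsAffineOpen V := hU.preimage f
  let P := (Scheme.Modules.pushforward f).obj M
  let Q := (Scheme.Modules.pullback f).obj N
  have hP : Coh.IsQCoh P := QCoh.isQCoh_pushforward f hM
  have hQ : Coh.IsQCoh Q := QCoh.isQCoh_pullback f hN
  letI : Algebra Γ(Y, U) Γ(X, V) := (f.app U).hom.toAlgebra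
  letI : Module Γ(Y, U) Γ(Q, V) := Module.compHom _ (f.app U).hom
  haveI : IsScalarTower Γ(Y, U) Γ(X, V) Γ(Q, V) := IsScalarTower.of_algebraMap_smul fun _ _ => rfl
  letI : Module Γ(Y, U) Γ(M, V) := Module.compHom _ (f.app U).hom
  haveI : IsScalarTower Γ(Y, U) Γ(X, V) Γ(M, V) := IsScalarTower.of_algebraMap_smul fun _ _ => rfl
  let l : Γ(N, U) →ₗ[Γ(Y, U)] Γ(Q, V) :=
    { toFun := fun t => KFlatLib.pb f t
      map_add' := fun a b => KFlatLib.pb_add f a b
      map_smul' := fun r t => KFlatLib.pb_sm f r t }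
  have hl : IsBaseChange Γ(X, V) l := by
    refine QCoh.isBaseChange_pullback hU f hV hN le_rfl (fun r => ?_) l fun t => ?_
    · show (f.app U).hom r = _
      rw [Scheme.Hom.app_eq_appLE]
    · show _ = Q.presheaf.map (homOfLE (le_refl V)).op _
      exact (QCoh.map_id' (M := Q) _ _).symm
  let cP : Γ(M, V) ⊗[Γ(Y, U)] Γ(N, U) ≃ₗ[Γ(Y, U)] Γ(P, U) ⊗[Γ(Y, U)] Γ(N, U) :=
    TensorProduct.congr
      ({ toFun := id, invFun := id, map_add' := fun _ _ => rfl, map_smul' := fun _ _ => rfl,
         left_inv := fun _ => rfl, right_inv := fun _ => rfl } : Γ(M, V) ≃ₗ[Γ(Y, U)] Γ(P, U))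
      (LinearEquiv.refl _ _)
  let φ : Γ(M, V) ⊗[Γ(Y, U)] Γ(N, U) →+ Γ((DCoh.tensorBi.obj P).obj N, U) :=
    (QCoh.tmLin P N U).toAddMonoidHom.comp cP.toAddMonoidHom
  let e1 : Γ(M, V) ⊗[Γ(Y, U)] Γ(N, U) ≃+ Γ(M, V) ⊗[Γ(X, V)] Γ(Q, V) :=
    (TensorProduct.AlgebraTensorModule.cancelBaseChange Γ(Y, U) Γ(X, V) Γ(X, V) Γ(M, V) Γ(N, U)).symm.toAddEquiv.trans
      (TensorProduct.congr (LinearEquiv.refl _ Γ(M, V)) hl.equiv).toAddEquiv
  have hcomm : ∀ z, (KFlatLib.projMod f M N).app U (φ z) = QCoh.tmLin M Q V (e1 z) := by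
    intro z
    induction z using TensorProduct.induction_on with
    | zero =>
      exact ((congrArg _ (map_zero φ)).trans (map_zero ((KFlatLib.projMod f M N).app U).hom)).trans
        ((congrArg _ (map_zero e1)).trans (map_zero (QCoh.tmLin M Q V))).symm
    | add a b ha hb =>
      refine ((congrArg _ (map_add φ a b)).trans
        (map_add ((KFlatLib.projMod f M N).app U).hom _ _)).trans ?_
      refine (congrArg₂ (fun p q : Γ((DCoh.tensorBi.obj M).obj Q, V) => p + q) ha hb).trans ?_
      exact ((congrArg _ (map_add e1 a b)).trans (map_add (QCoh.tmLin M Q V) _ _)).symm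
    | tmul s t =>
      refine (projMod_tmS f M N s t).trans ?_
      show QCoh.tmS M Q s (l t) = QCoh.tmLin M Q V
        ((TensorProduct.congr (LinearEquiv.refl _ Γ(M, V)) hl.equiv)
          ((TensorProduct.AlgebraTensorModule.cancelBaseChange Γ(Y, U) Γ(X, V) Γ(X, V) Γ(M, V) Γ(N, U)).symm
            (s ⊗ₜ[Γ(Y, U)] t)))
      rw [TensorProduct.AlgebraTensorModule.cancelBaseChange_symm_tmul, TensorProduct.congr_tmul,
        QCoh.tmLin_tmul, hl.equiv_tmul, one_smul, LinearEquiv.refl_apply]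
  have hφ : Function.Bijective φ :=
    (QCoh.bijective_tmLin (M := P) (N := N) hP hN hU).comp cP.bijective
  have hψ : Function.Bijective fun z => QCoh.tmLin M Q V (e1 z) :=
    (QCoh.bijective_tmLin (M := M) (N := Q) hM hQ hV).comp e1.bijective
  have heq : ((KFlatLib.projMod f M N).app U) ∘ φ = fun z => QCoh.tmLin M Q V (e1 z) := funext hcomm
  rw [← Function.Bijective.of_comp_iff _ hφ]
  exact (congrArg Function.Bijective heq).mpr hψ

/-- The projection formula along an affine morphism. -/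
theorem isIso_projMod_affine [IsAffineHom f] (hM : Coh.IsQCoh M) (hN : Coh.IsQCoh N) :
    IsIso (KFlatLib.projMod f M N) := by
  refine QCoh.isIso_of_affine_cover _ (KFlatLib.isQCoh_tensor (QCoh.isQCoh_pushforward f hM) hN)
    (QCoh.isQCoh_pushforward f (KFlatLib.isQCoh_tensor hM (QCoh.isQCoh_pullback f hN))) fun y => ?_
  obtain ⟨U, hU, hy, -⟩ := exists_isAffineOpen_mem_and_subset (X := Y) (x := y) (U := ⊤) trivial
  exact ⟨U, hy, hU, bijective_app f M N hM hN hU⟩

end Groth.Agent.H6Proj
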