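import Groth.Agent.AmpleFamGen.Affine
import Groth.Agent.SheafHomX.Basic
import Groth.Agent.SheafHomX.Coherent
import Groth.Agent.KFlatLib.Scheme.ExtZero
import Groth.Agent.QCoh.Devissage
import Groth.Agent.QCoh.Local
import Groth.Agent.KZ.PerfCoh

/-!
# Surjections from box products under the resolution property
-/

set_option autoImplicit false
set_option linter.style.haveILetI false
set_option backward.isDefEq.respectTransparency false
set_option backward.isDefEq.respectTransparency.types false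
set_option maxHeartbeats 800000

universe u

open CategoryTheory CategoryTheory.Limits AlgebraicGeometry TopologicalSpace Opposite

attribute [local instance] CategoryTheory.Abelian.hasFiniteBiproducts

noncomputable section

namespace Groth.Agent.H6Proj

open Groth.Agent

theorem isQCoh_hom_of_finLocFree {P : Scheme.{u}} {M N : P.Modules} (hM : FlatMod.IsFinLocFree M)
    (hN : Coh.IsQCoh N) : Coh.IsQCoh ((SheafHomX.hom M).obj N) := by
  refine KZ.isQCoh_of_local fun x => ?_
  obtain ⟨W, a, hxW, ⟨e⟩⟩ := hM x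
  refine ⟨W, W.ι, inferInstance, by rw [Scheme.Opens.range_ι]; exact hxW, ?_⟩
  let T : ULift.{u} (Fin a) → (W : Scheme.{u}).Modules := fun _ => Coh.structureModule W
  let g : M.restrict W.ι ≅ ⨁ T := e ≪≫ QCoh.freeModIso _ a ≪≫ (biproduct.isoCoproduct T).symm
  let c : (SheafHomX.hom (M.restrict W.ι)).obj (N.restrict W.ι) ≅ (SheafHomX.hom (⨁ T)).obj (N.restrict W.ι) :=
    { hom := (SheafHomX.homMap g.inv).app _
      inv := (SheafHomX.homMap g.hom).app _
      hom_inv_id := by rw [← SheafHomX.homMap_comp, Iso.hom_inv_id, SheafHomX.homMap_id]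
      inv_hom_id := by rw [← SheafHomX.homMap_comp, Iso.inv_hom_id, SheafHomX.homMap_id] }
  exact (QCoh.isQCoh_iff_iso ((SheafHomX.restrictIso W.ι M).app N ≪≫ c)).2
    (SheafHomX.isQCoh_hom_biproduct_unit (QCoh.isQCoh_restrict W.ι hN))

/-- The sections of a module on an affine open, hit by a vector bundle, after an affine morphism. -/
theorem exists_epi_on_preimage {P Y : Scheme.{u}} [CompactSpace Y] [QuasiSeparatedSpace Y]
    (hY : PerfAux.HasResolutionProperty Y) (q : P ⟶ Y) [IsAffineHom q] {F : P.Modules}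
    (hF : Coh.IsQCoh F) (hft : CohB1.IsFT F) {V : Y.Opens} (hV : IsAffineOpen V) :
    ∃ (G : Y.Modules) (ψ : (Scheme.Modules.pullback q).obj G ⟶ F), FlatMod.IsFinLocFree G ∧
      ∀ p ∈ q ⁻¹ᵁ V, Epi ((DerSch.stalkFunctor P p).map ψ) := by
  let adj := Scheme.Modules.pullbackPushforwardAdjunction q
  have hW : IsAffineOpen (q ⁻¹ᵁ V) := hV.preimage q
  obtain ⟨J, t, ht⟩ := Submodule.fg_iff_exists_fin_generating_family.1 (QCoh.finite_of_isFT hF hft hW).fg_top
  obtain ⟨E, φ, hE, hφ⟩ := AmpleFamGen.exists_flf_hit hY (QCoh.isQCoh_pushforward q hF) hV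
    (T := Set.range fun j => (show Γ((Scheme.Modules.pushforward q).obj F, V) from t j)) (Set.finite_range _)
  refine ⟨E, (adj.homEquiv E F).symm φ, hE, fun p hp => ?_⟩
  rw [ModuleCat.epi_iff_range_eq_top, eq_top_iff]
  have hspan : Submodule.span (P.presheaf.stalk p)
      (Set.range fun j => F.presheaf.germ (q ⁻¹ᵁ V) p hp (t j)) = ⊤ := by
    letI := QCoh.stalkAlg (X := P) hp
    letI := QCoh.stalkModule F hp
    haveI := QCoh.isScalarTower_stalk F hp
    haveI := QCoh.isLocalization_stalk' hW hp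
    haveI := QCoh.isLocalizedModule_germLin hF hW hp
    have h1 : Submodule.localized' (P.presheaf.stalk p) (hW.primeIdealOf ⟨p, hp⟩).asIdeal.primeCompl
        (QCoh.germLin F hp) (Submodule.span Γ(P, q ⁻¹ᵁ V) (Set.range t)) = ⊤ := by
      rw [ht, Submodule.localized'_top]
    rw [Submodule.localized'_span, ← Set.range_comp] at h1
    exact h1
  rw [← hspan, Submodule.span_le]
  rintro _ ⟨j, rfl⟩
  obtain ⟨e, he⟩ := hφ _ ⟨j, rfl⟩
  refine ⟨((Scheme.Modules.pullback q).obj E).presheaf.germ (q ⁻¹ᵁ V) p hp (InvX.pullElt q e), ?_⟩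
  refine (DerSch.stalkFunctor_map_germ p _ (q ⁻¹ᵁ V) hp _).trans (congrArg _ ?_)
  refine Eq.trans ?_ he
  have h := adj.homEquiv_unit (f := (adj.homEquiv E F).symm φ)
  rw [Equiv.apply_symm_apply] at h
  exact (congrArg (fun χ => χ.app V e) h).symm

theorem exists_box_local {P X Y : Scheme.{u}} (pX : P ⟶ X) (pY : P ⟶ Y)
    [CompactSpace X] [QuasiSeparatedSpace X] [CompactSpace Y] [QuasiSeparatedSpace Y]
    [QuasiCompact pX] [QuasiSeparated pX]
    (hX : PerfAux.HasResolutionProperty X) (hY : PerfAux.HasResolutionProperty Y)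
    {F : P.Modules} (hF : Coh.IsQCoh F) (hft : CohB1.IsFT F)
    {U : X.Opens} (hU : IsAffineOpen U) {V : Y.Opens} (hV : IsAffineOpen V)
    [IsAffineHom ((pX ⁻¹ᵁ U).ι ≫ pY)] :
    ∃ (E : X.Modules) (G : Y.Modules) (ψ : (DCoh.tensorBi.obj ((Scheme.Modules.pullback pX).obj E)).obj
        ((Scheme.Modules.pullback pY).obj G) ⟶ F), FlatMod.IsFinLocFree E ∧ FlatMod.IsFinLocFree G ∧
      ∀ p ∈ pX ⁻¹ᵁ U ⊓ pY ⁻¹ᵁ V, Epi ((DerSch.stalkFunctor P p).map ψ) := by
  let O := pX ⁻¹ᵁ U
  let j := O.ι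
  let R := Scheme.Modules.restrictFunctor j
  obtain ⟨G, ψ₀, hG, hψ₀⟩ := exists_epi_on_preimage hY (j ≫ pY) (F := F.restrict j)
    (QCoh.isQCoh_restrict j hF) (Algz7.isFT_restrict j hF hft) hV
  let M := (Scheme.Modules.pullback pY).obj G
  let c : R.obj M ≅ (Scheme.Modules.pullback (j ≫ pY)).obj G :=
    (Scheme.Modules.restrictFunctorIsoPullback j).app M ≪≫ (Scheme.Modules.pullbackComp j pY).app G
  let θ₁ : (SheafHomX.ten (R.obj M)).obj (Coh.structureModule O) ⟶ R.obj F :=
    (SheafHomX.tenUnitIso (R.obj M)).hom ≫ c.hom ≫ ψ₀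
  let θ₀ : (SheafHomX.ten M).obj ((KFlatLib.lsh j).obj (Coh.structureModule O)) ⟶ F :=
    (SheafHomX.projTen j M).hom.app (Coh.structureModule O) ≫ ((KFlatLib.lshAdj j).homEquiv _ _).symm θ₁
  have hθ : ∀ p ∈ pX ⁻¹ᵁ U ⊓ pY ⁻¹ᵁ V, Epi ((DerSch.stalkFunctor P p).map θ₀) := by
    rintro p ⟨hpU, hpV⟩
    let v : (O : Scheme.{u}) := ⟨p, hpU⟩
    haveI := hψ₀ v hpV
    haveI h1 : Epi ((DerSch.stalkFunctor (O : Scheme.{u}) v).map θ₁) := by
      simp only [θ₁, Functor.map_comp]
      infer_instance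
    have h2 : (KFlatLib.lshAdj j).unit.app _ ≫ R.map (((KFlatLib.lshAdj j).homEquiv _ _).symm θ₁) = θ₁ :=
      ((KFlatLib.lshAdj j).homEquiv_unit _ _ _).symm.trans (Equiv.apply_symm_apply _ _)
    haveI h3 : Epi ((DerSch.stalkFunctor (O : Scheme.{u}) v).map
        (R.map (((KFlatLib.lshAdj j).homEquiv _ _).symm θ₁))) := by
      rw [← h2, Functor.map_comp] at h1
      exact epi_of_epi ((DerSch.stalkFunctor (O : Scheme.{u}) v).map ((KFlatLib.lshAdj j).unit.app _)) _
    haveI h4 : Epi ((DerSch.stalkFunctor P p).map (((KFlatLib.lshAdj j).homEquiv _ _).symm θ₁)) :=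
      (ModuleCat.epi_iff_surjective _).2
        (KFlatLib.surjective_stalk_of_restrict j _ v ((ModuleCat.epi_iff_surjective _).1 h3))
    simp only [θ₀, Functor.map_comp]
    infer_instance
  let H := (SheafHomX.hom M).obj F
  have hM : FlatMod.IsFinLocFree M := KFlatLib.isFinLocFree_pullback pY hG
  have hH : Coh.IsQCoh H := isQCoh_hom_of_finLocFree hM hF
  let xh : (KFlatLib.lsh j).obj (Coh.structureModule O) ⟶ H := (SheafHomX.adj M).homEquiv _ _ θ₀
  let xr : Coh.structureModule O ⟶ R.obj H := (KFlatLib.lshAdj j).homEquiv _ _ xh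
  let σ : Γ((Scheme.Modules.pushforward pX).obj H, U) :=
    H.presheaf.map (eqToHom (show O = j ''ᵁ ⊤ by rw [Scheme.Hom.image_top_eq_opensRange, Scheme.Opens.opensRange_ι])).op
      (InvX.one xr)
  obtain ⟨E, φ, hE, hφ⟩ := AmpleFamGen.exists_flf_hit hX (QCoh.isQCoh_pushforward pX hH) hU
    (T := {σ}) (Set.finite_singleton σ)
  obtain ⟨e, he⟩ := hφ σ rfl
  let A := (Scheme.Modules.pullback pX).obj E
  let χ : A ⟶ H := ((Scheme.Modules.pullbackPushforwardAdjunction pX).homEquiv _ _).symm φ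
  let ε : Coh.structureModule O ⟶ R.obj A :=
    QCoh.homOfTop (A.presheaf.map (eqToHom (show j ''ᵁ ⊤ = O by rw [Scheme.Hom.image_top_eq_opensRange, Scheme.Opens.opensRange_ι])).op
      (InvX.pullElt pX e))
  have hχ : χ.app O (InvX.pullElt pX e) = σ := by
    refine Eq.trans ?_ he
    have h := (Scheme.Modules.pullbackPushforwardAdjunction pX).homEquiv_unit (f := χ)
    rw [Equiv.apply_symm_apply] at h
    exact (congrArg (fun k => k.app U e) h).symm
  have hεx : ε ≫ R.map χ = xr := by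
    have hone : InvX.one (ε ≫ R.map χ) = InvX.one xr := by
      show χ.app (j ''ᵁ ⊤) (ε.app ⊤ (1 : Γ(O, ⊤))) = _
      rw [QCoh.homOfTop_app, one_smul]
      refine (congrArg (χ.app (j ''ᵁ ⊤)) (QCoh.map_id' (M := R.obj A) _ _)).trans ?_
      refine (QCoh.map_app_comm χ _ _).trans ?_
      refine (congrArg _ hχ).trans ?_
      exact (QCoh.map_map _ _ _).trans (QCoh.map_id' _ _)
    refine Scheme.Modules.hom_ext _ _ fun W => ?_
    ext r
    exact (InvX.app_eq_smul (ε ≫ R.map χ) r).trans ((congrArg (fun z => (show Γ(O, W) from r) • AModX.res _ (le_top : W ≤ ⊤) z) hone).trans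
      (InvX.app_eq_smul xr r).symm)
  let εh : (KFlatLib.lsh j).obj (Coh.structureModule O) ⟶ A := ((KFlatLib.lshAdj j).homEquiv _ _).symm ε
  have hεh : εh ≫ χ = xh := by
    rw [← Adjunction.homEquiv_naturality_right_symm, hεx, Equiv.symm_apply_apply]
  refine ⟨E, G, ((SheafHomX.adj M).homEquiv A F).symm χ, hE, hG, fun p hp => ?_⟩
  haveI := hθ p hp
  have : (SheafHomX.ten M).map εh ≫ ((SheafHomX.adj M).homEquiv A F).symm χ = θ₀ := by
    rw [← Adjunction.homEquiv_naturality_left_symm, hεh, Equiv.symm_apply_apply]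
  have h5 : Epi ((DerSch.stalkFunctor P p).map ((SheafHomX.ten M).map εh) ≫
      (DerSch.stalkFunctor P p).map (((SheafHomX.adj M).homEquiv A F).symm χ)) := by
    rw [← Functor.map_comp, this]
    assumption
  exact @epi_of_epi _ _ _ _ _ ((DerSch.stalkFunctor P p).map ((SheafHomX.ten M).map εh)) _ h5

end Groth.Agent.H6Proj
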